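import Groth.Agent.H27FulTrace.Points
import Mathlib.GroupTheory.Index

/-!
# Counting normalised vectors by linear forms
-/

set_option autoImplicit false
set_option linter.style.haveILetI false

universe u

open Finset Groth.Agent.H27FulTrace.Link

namespace Groth.Agent.H27UPts

noncomputable section

variable {n : ℕ} {k : Type u} [Field k]

/-- The value of a linear form at a vector. -/
def lev (v : Fin (n + 1) → k) : (Fin (n + 1) → k) →+ k :=
  AddMonoidHom.mk' (fun a => a ⬝ᵥ v) fun a b => add_dotProduct a b v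

theorem lev_apply (v a : Fin (n + 1) → k) : lev v a = a ⬝ᵥ v := rfl

theorem exists_separate {t t' : NIdx n k} (h : t ≠ t') :
    ∃ a : Fin (n + 1) → k, lev (nvec t) a = 0 ∧ lev (nvec t') a ≠ 0 := by
  classical
  by_cases hj : ∃ j, nvec t' j ≠ nvec t' t.1 * nvec t j
  · obtain ⟨j, hj⟩ := hj
    refine ⟨Pi.single j 1 - nvec t j • Pi.single t.1 1, ?_, ?_⟩
    · simp [lev_apply, sub_dotProduct, smul_dotProduct, nvec_self]
    · simp only [lev_apply, sub_dotProduct, smul_dotProduct, single_dotProduct, one_mul, smul_eq_mul, ne_eq,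
        sub_eq_zero]
      rw [mul_comm]
      exact hj
  · exfalso
    push Not at hj
    apply h
    have hne : nvec t' t.1 ≠ 0 := fun h0 => by
      have := hj t'.1
      rw [nvec_self, h0, zero_mul] at this
      exact one_ne_zero this
    have hle : t'.1 ≤ t.1 := by
      by_contra hlt
      exact hne (nvec_lt t' (not_le.1 hlt))
    have hge : t.1 ≤ t'.1 := by
      by_contra hlt
      have := hj t'.1
      rw [nvec_self t', nvec_lt t (not_le.1 hlt), mul_zero] at this
      exact one_ne_zero this
    obtain ⟨b, w⟩ := t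
    obtain ⟨b', w'⟩ := t'
    obtain rfl : b' = b := le_antisymm hle hge
    congr 1
    funext j
    have h1 := hj j.1
    rw [nvec_self ⟨b', w'⟩, one_mul] at h1
    simpa [nvec, H27Zeta.coord, H27Zeta.extZero, j.2, j.2.ne'] using h1.symm

variable [Fintype k] [DecidableEq k]

theorem card_eval_eq_zero (t : NIdx n k) :
    Fintype.card k * (univ.filter fun a : Fin (n + 1) → k => lev (nvec t) a = 0).card =
      Fintype.card k ^ (n + 1) := by
  classical
  have hsurj : Function.Surjective (lev (nvec t)) := fun c =>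
    ⟨Pi.single t.1 c, by simp [lev_apply, nvec_self]⟩
  have h := (lev (nvec t)).ker.card_mul_index
  rw [AddSubgroup.index_ker, AddMonoidHom.range_eq_top.2 hsurj, Nat.card_congr AddSubgroup.topEquiv.toEquiv,
    Nat.card_eq_fintype_card (α := k), Nat.card_eq_fintype_card (α := Fin (n + 1) → k), Fintype.card_fun,
    Fintype.card_fin, Nat.card_eq_fintype_card, Fintype.card_subtype] at h
  rw [← h, mul_comm]
  congr 2
  ext a
  simp

theorem card_eval_eq_zero₂ {t t' : NIdx n k} (h : t ≠ t') :
    Fintype.card k ^ 2 * (univ.filter fun a : Fin (n + 1) → k => lev (nvec t) a = 0 ∧ lev (nvec t') a = 0).card =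
      Fintype.card k ^ (n + 1) := by
  classical
  have hsurj : Function.Surjective ((lev (nvec t)).prod (lev (nvec t'))) := by
    rintro ⟨c, c'⟩
    obtain ⟨a, ha, ha'⟩ := exists_separate h
    obtain ⟨b, hb, hb'⟩ := exists_separate (Ne.symm h)
    refine ⟨(c / lev (nvec t) b) • b + (c' / lev (nvec t') a) • a, Prod.ext ?_ ?_⟩
    · simp only [lev_apply] at ha ha' hb hb' ⊢
      simp [AddMonoidHom.prod_apply, lev_apply, add_dotProduct, smul_dotProduct, ha, div_mul_cancel₀ _ hb']
    · simp only [lev_apply] at ha ha' hb hb' ⊢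
      simp [AddMonoidHom.prod_apply, lev_apply, add_dotProduct, smul_dotProduct, hb, div_mul_cancel₀ _ ha']
  have h := ((lev (nvec t)).prod (lev (nvec t'))).ker.card_mul_index
  rw [AddSubgroup.index_ker, AddMonoidHom.range_eq_top.2 hsurj, Nat.card_congr AddSubgroup.topEquiv.toEquiv,
    Nat.card_eq_fintype_card (α := k × k), Fintype.card_prod,
    Nat.card_eq_fintype_card (α := Fin (n + 1) → k), Fintype.card_fun,
    Fintype.card_fin, Nat.card_eq_fintype_card, Fintype.card_subtype] at h
  rw [← h, mul_comm, sq]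
  congr 2
  ext a
  simp [Prod.ext_iff]

/-- If every linear form either kills `T` or meets it in at most `B` points, `T` has at most `2 q B` points. -/
theorem card_le (T : Finset (NIdx n k)) (B : ℕ) (hB : 0 < B)
    (h : ∀ a : Fin (n + 1) → k, (∀ t ∈ T, lev (nvec t) a = 0) ∨
      (T.filter fun t => lev (nvec t) a = 0).card ≤ B) :
    T.card ≤ 2 * Fintype.card k * B := by
  classical
  have hq : 2 ≤ Fintype.card k := Fintype.one_lt_card
  by_cases hT : T.card ≤ 1
  · exact hT.trans (Nat.succ_le_of_lt (by positivity))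
  obtain ⟨t, ht, t', ht', hne⟩ := Finset.one_lt_card.1 (not_le.1 hT)
  set q := Fintype.card k with hqdef
  set W := univ.filter fun a : Fin (n + 1) → k => lev (nvec t) a = 0 ∧ lev (nvec t') a = 0 with hW
  set N₂ := W.card with hN₂
  have h2 := card_eval_eq_zero₂ hne
  have hsum : (∑ a : Fin (n + 1) → k, (T.filter fun s => lev (nvec s) a = 0).card) * q = T.card * q ^ (n + 1) := by
    have hdc : ∑ a : Fin (n + 1) → k, (T.filter fun s => lev (nvec s) a = 0).card =
        ∑ s ∈ T, (univ.filter fun a : Fin (n + 1) → k => lev (nvec s) a = 0).card := by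
      simp only [Finset.card_filter]
      exact Finset.sum_comm
    rw [hdc, Finset.sum_mul, Finset.sum_congr rfl fun s _ => (mul_comm _ _).trans (card_eval_eq_zero s),
      Finset.sum_const, smul_eq_mul]
  have hle : ∑ a : Fin (n + 1) → k, (T.filter fun s => lev (nvec s) a = 0).card ≤
      N₂ * T.card + q ^ (n + 1) * B := by
    rw [← Finset.sum_filter_add_sum_filter_not univ (fun a => a ∈ W)]
    refine add_le_add ((Finset.sum_le_card_nsmul _ _ T.card fun a _ => Finset.card_filter_le _ _).trans
      (Nat.mul_le_mul_right _ (Finset.card_le_card fun a ha => (Finset.mem_filter.1 ha).2)))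
      ((Finset.sum_le_card_nsmul _ _ B fun a ha => ?_).trans (Nat.mul_le_mul_right _ ?_))
    · refine (h a).resolve_left fun hall => (Finset.mem_filter.1 ha).2 ?_
      exact Finset.mem_filter.2 ⟨Finset.mem_univ _, hall t ht, hall t' ht'⟩
    · refine (Finset.card_le_univ _).trans ?_
      rw [Fintype.card_fun, Fintype.card_fin]
  have hN : q ^ 2 * N₂ = q ^ (n + 1) := h2
  have key : T.card * (q * (q * N₂)) ≤ (N₂ * T.card + q ^ 2 * N₂ * B) * q := by
    rw [hN, ← mul_assoc q q, ← sq, hN, ← hsum]
    exact Nat.mul_le_mul_right _ hle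
  have hNpos : 0 < N₂ := Nat.pos_of_ne_zero fun h0 => by
    rw [h0, mul_zero] at hN
    exact absurd hN.symm (pow_ne_zero _ (by omega))
  have key2 : T.card * q ≤ T.card + q ^ 2 * B := by
    refine Nat.le_of_mul_le_mul_left ?_ (Nat.mul_pos (show 0 < q by omega) hNpos)
    calc q * N₂ * (T.card * q) = T.card * (q * (q * N₂)) := by ring
      _ ≤ (N₂ * T.card + q ^ 2 * N₂ * B) * q := key
      _ = q * N₂ * (T.card + q ^ 2 * B) := by ring
  refine Nat.le_of_mul_le_mul_right ?_ (show 0 < q by omega)
  have h3 : T.card * 2 ≤ T.card * q := Nat.mul_le_mul_left _ hq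
  calc T.card * q ≤ 2 * (q ^ 2 * B) := by omega
    _ = 2 * q * B * q := by ring

end

end Groth.Agent.H27UPts
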