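import Groth.Agent.H27UPts.Cut
import Groth.Agent.H27UPts.Count
import Groth.Agent.H27Weil.Geometry
import Groth.Agent.H11P1n.Mult
import Groth.Agent.H11Ample.RelAmple
import Groth.Agent.H11Ample.Converse
import Groth.Agent.H10Coh.Stab.TwistInt
import Groth.Agent.H8Props.AmpleBatch
import Groth.Prelude.Def_PicLoc

/-!
# A uniform bound for the number of rational points in terms of the degree
-/

set_option autoImplicit false
set_option linter.style.haveILetI false
set_option backward.isDefEq.respectTransparency false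

universe u

open CategoryTheory CategoryTheory.Limits AlgebraicGeometry Opposite TopologicalSpace MvPolynomial
open Groth.Agent.H8Props.FieldDim (cdim)
open Groth.Agent.H28Int Groth.Agent.H27FulTrace.Link

namespace Groth.Agent.H27UPts

noncomputable section

variable {n : ℕ} {k : Type u} [Field k]

/-- The point of projective space given by a normalised vector. -/
def ptv (t : NIdx n k) : ↥(CohB1.ProjSpace n k) :=
  (H27Zeta.chartPoint (k := k) (k' := k) t.1 (H27Zeta.extZero t.1 t.2)).base (IsLocalRing.closedPoint k)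

/-- The linear form with given coefficients. -/
def linForm (a : Fin (n + 1) → k) : MvPolynomial (Fin (n + 1)) k := ∑ j, a j • MvPolynomial.X j

theorem linForm_mem (a : Fin (n + 1) → k) : linForm a ∈ CohB1.polyGrading n k 1 :=
  Submodule.sum_mem _ fun j _ => Submodule.smul_mem _ _ (isHomogeneous_X k j)

theorem eval_linForm (a v : Fin (n + 1) → k) : MvPolynomial.eval v (linForm a) = lev v a := by
  simp [linForm, lev_apply, dotProduct, MvPolynomial.smul_eq_C_mul]

theorem ptv_mem_basicOpen (t : NIdx n k) (a : Fin (n + 1) → k) :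
    ptv t ∈ Proj.basicOpen (CohB1.polyGrading n k) (linForm a) ↔ lev (nvec t) a ≠ 0 := by
  let b := t.1
  let v := H27Zeta.extZero t.1 t.2
  let z : ↥(Spec (CommRingCat.of k)) := IsLocalRing.closedPoint k
  let hX := H11Proj.ProjSpace.X_mem n k b
  let ψ := (MvPolynomial.eval₂Hom (algebraMap k k) v).comp (H11Proj.ProjSpace.chartInv n k b)
  obtain ⟨P, hP⟩ : ∃ P : PrimeSpectrum (HomogeneousLocalization.Away (CohB1.polyGrading n k) (MvPolynomial.X b)),
      P = PrimeSpectrum.comap ψ z := ⟨_, rfl⟩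
  have h1 : ptv t ∈ Proj.basicOpen (CohB1.polyGrading n k) (linForm a) ↔
      P ∈ PrimeSpectrum.basicOpen (HomogeneousLocalization.Away.isLocalizationElem hX (linForm_mem a)) := by
    rw [← Proj.awayι_preimage_basicOpen (CohB1.polyGrading n k) hX one_pos (linForm_mem a) one_pos, hP]
    rfl
  have hbot : z.asIdeal = ⊥ := (Ideal.eq_bot_or_top z.asIdeal).resolve_right z.isPrime.ne_top
  rw [h1, hP, PrimeSpectrum.mem_basicOpen]
  show ¬ (ψ (HomogeneousLocalization.Away.isLocalizationElem hX (linForm_mem a)) ∈ z.asIdeal) ↔ _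
  rw [hbot, Ideal.mem_bot]
  have h2 : ψ (HomogeneousLocalization.Away.isLocalizationElem hX (linForm_mem a)) = lev (nvec t) a := by
    show MvPolynomial.eval₂Hom (algebraMap k k) v (H11Proj.ProjSpace.chartInv n k b _) = _
    rw [H11Proj.ProjSpace.chartInv_mk, pow_one, dehom_eq_eval, eval_linForm]
    rfl
  rw [h2]

section onX

variable {X : Scheme.{u}} (ι : X ⟶ CohB1.ProjSpace n k)

/-- The pullback of `O(-1)`. -/
abbrev Mn : X.Modules := (Scheme.Modules.pullback ι).obj (Twist.twistProjSpace n k (-1))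

/-- The pullback of `O(1)`. -/
abbrev Lp : X.Modules := (Scheme.Modules.pullback ι).obj (Twist.twistProjSpace n k 1)

theorem nonempty_Lp_tensor_Mn : Nonempty (CohB1.tensorMod (Lp ι) (Mn ι) ≅ Coh.structureModule X) := by
  have hT := H10Coh.Stab.isTwistFamily_projSpace n k
  obtain ⟨e₀⟩ := hT.zero
  obtain ⟨e₁⟩ := hT.add 1 (-1)
  obtain ⟨φ⟩ := H11Ample.exists_iso_pullback_tensor ι (hT.inv 1) (hT.inv (-1))
  exact ⟨φ.symm ≪≫ (Scheme.Modules.pullback ι).mapIso
    (e₁ ≪≫ eqToIso (congrArg _ (add_neg_cancel (1 : ℤ))) ≪≫ e₀) ≪≫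
    @asIso _ _ _ _ (SheafOfModules.pullbackObjUnitToUnit ι.toRingCatSheafHom) (PicLoc.isIso_pullbackObjUnitToUnit ι)⟩

theorem isInvertible_Lp : PicF.IsInvertible (Lp ι) :=
  H11Ample.isInvertible_pullback ι H11Ample.isInvertible_twist

theorem isInvertible_Mn : PicF.IsInvertible (Mn ι) :=
  H11Ample.isInvertible_pullback ι ((H10Coh.Stab.isTwistFamily_projSpace n k).inv (-1))

/-- The list of `r` copies of `O(-1)`. -/
abbrev negList (r : ℕ) : List X.Modules := List.replicate r (Mn ι)

theorem inv_negList (r : ℕ) : ∀ A ∈ negList ι r, PicF.IsInvertible A := fun A hA => by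
  rw [List.eq_of_mem_replicate hA]; exact isInvertible_Mn ι

variable [IsClosedImmersion ι] [X.Over (Spec (CommRingCat.of k))] [IsProper (X ↘ Spec (CommRingCat.of k))]

theorem ample_negList (r : ℕ) : ∀ M ∈ negList ι r, ∃ L, CohB1.IsAmple L ∧
    Nonempty (CohB1.tensorMod L M ≅ Coh.structureModule X) := fun M hM => by
  rw [List.eq_of_mem_replicate hM]
  exact ⟨Lp ι, H11Ample.isAmple_pullback_of_isAffineHom ι (H11Ample.isAmple_twistProjSpace n k), nonempty_Lp_tensor_Mn ι⟩

/-- The section of `O(1)` given by a linear form. -/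
def sec1 (a : Fin (n + 1) → k) : Γ(Lp ι, ⊤) :=
  H11Ample.pullTop (L := Twist.twistProjSpace n k 1) ι
    (H11Tilde.globalSec (CohB1.polyGrading n k) (linForm_mem a))

theorem gen_sec1 (a : Fin (n + 1) → k) :
    H11Ample.gen (Lp ι) (sec1 ι a) = ι ⁻¹ᵁ Proj.basicOpen (CohB1.polyGrading n k) (linForm a) :=
  (H11P1n.gen_pullTop ι H11Ample.isInvertible_twist _).trans (congrArg (ι ⁻¹ᵁ ·)
    (H11Tilde.genLocus_globalSec (CohB1.polyGrading n k) (linForm_mem a) fun y => by
      obtain ⟨j, hj⟩ := H11Ample.exists_mem_basicOpen_X (n := n) (R := k) y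
      exact ⟨_, H11Ample.X_mem j, hj⟩))

/-- The points where the support has dimension at least `r`. -/
def topPart (F : X.Modules) (r : ℕ) : Set X :=
  {x | ∃ w ∈ CohB1.support F, (r : WithBot ℕ∞) ≤ cdim w ∧ x ∈ closure ({w} : Set X)}

variable [Fintype k]

open Classical in
/-- The normalised vectors of the rational points in a subset. -/
def ptsIn (C : Set X) : Finset (NIdx n k) := Finset.univ.filter fun t => ∃ x ∈ C, ι.base x = ptv t

omit [IsClosedImmersion ι] [X.Over (Spec (CommRingCat.of k))] [IsProper (X ↘ Spec (CommRingCat.of k))] in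
theorem mem_ptsIn {C : Set X} {t : NIdx n k} : t ∈ ptsIn ι C ↔ ∃ x ∈ C, ι.base x = ptv t := by
  classical
  simp [ptsIn]

/-- The statement proved by dévissage. -/
def Bound (r : ℕ) (F : X.Modules) : Prop :=
  topologicalKrullDim (CohB1.support F) ≤ (r : WithBot ℕ∞) →
    0 ≤ D k (negList ι r) F ∧
      ((ptsIn ι (topPart F r)).card : ℤ) ≤ 2 ^ r * (Fintype.card k : ℤ) ^ r * D k (negList ι r) F

omit [IsClosedImmersion ι] in
theorem length_negList (r : ℕ) : (negList ι r).length = r := List.length_replicate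

theorem ptsIn_mono {C C' : Set X} (h : C ⊆ C') : ptsIn ι C ⊆ ptsIn ι C' := fun t ht => by
  obtain ⟨x, hx, e⟩ := (mem_ptsIn ι).1 ht
  exact (mem_ptsIn ι).2 ⟨x, h hx, e⟩

theorem card_point {C : Set X} (hC : C.Subsingleton) : (ptsIn ι C).card ≤ 1 := by
  refine Finset.card_le_one.2 fun t ht t' ht' => ?_
  obtain ⟨x, hx, e⟩ := (mem_ptsIn ι).1 ht
  obtain ⟨x', hx', e'⟩ := (mem_ptsIn ι).1 ht'
  by_contra hne
  obtain ⟨a, ha, ha'⟩ := exists_separate hne
  have := (ptv_mem_basicOpen t' a).2 ha'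
  rw [← e', ← hC hx hx', e] at this
  exact (ptv_mem_basicOpen t a).1 this ha

theorem devissage_bound (r : ℕ)
    (hint : ∀ (Z : Scheme.{u}) (i : Z ⟶ X) [IsClosedImmersion i] [IsIntegral Z],
      topologicalKrullDim (Set.range i) ≤ (r : WithBot ℕ∞) → (r : WithBot ℕ∞) ≤ cdim (i (genericPoint Z)) →
      ((ptsIn ι (Set.range i)).card : ℤ) ≤
        2 ^ r * (Fintype.card k : ℤ) ^ r * D k (negList ι r) ((Coh.push i).obj (Coh.structureModule Z)))
    (F : X.Modules) (hF : Coh.IsCoh F) : Bound ι r F := by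
  haveI := H28Int.isNoetherian k (X := X)
  have hψ := isAddFn_D k (negList ι r) (inv_negList ι r)
  have hempty : ∀ M : X.Modules, CohB1.support M = ∅ → (ptsIn ι (topPart M r)).card = 0 := fun M hM =>
    Finset.card_eq_zero.2 (Finset.eq_empty_of_forall_notMem fun t ht => by
      obtain ⟨x, ⟨w, hw, -⟩, -⟩ := (mem_ptsIn ι).1 ht
      simp [hM] at hw)
  refine LeadDev.devissage_induction (Set.univ : Set X) (Bound ι r) (fun A B ⟨e⟩ h hd => ?_) (fun A hA _ => ?_)
    (fun S hS h₁ h₂ h₃ p₁ p₃ hd => ?_) ?_ F hF (Set.subset_univ _)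
  · have hsub : CohB1.support A = CohB1.support B :=
      Set.Subset.antisymm (LeadDev.support_subset_of_iso e) (LeadDev.support_subset_of_iso e.symm)
    rw [← hψ.congr e, show topPart B r = topPart A r by simp only [topPart, hsub]]
    exact h (hsub ▸ hd)
  · rw [hψ.zero hA, hempty A (LeadDev.support_eq_empty_of_isZero hA)]
    simp
  · classical
    haveI := hS.mono_f
    haveI := hS.epi_g
    obtain ⟨a₁, b₁⟩ := p₁ ((dim_le_of_subset (LeadDev.support_subset_of_mono S.f)).trans hd)
    obtain ⟨a₃, b₃⟩ := p₃ ((dim_le_of_subset (LeadDev.support_subset_of_epi S.g)).trans hd)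
    rw [hψ.add S hS h₁ h₂ h₃, mul_add]
    refine ⟨add_nonneg a₁ a₃, le_trans ?_ (add_le_add b₁ b₃)⟩
    exact_mod_cast (Finset.card_le_card (fun t ht => by
      obtain ⟨x, ⟨w, hw, hwd, hxw⟩, e⟩ := (mem_ptsIn ι).1 ht
      rcases LeadDev.support_subset_of_shortExact hS hw with h | h
      · exact Finset.mem_union_left _ ((mem_ptsIn ι).2 ⟨x, ⟨w, h, hwd, hxw⟩, e⟩)
      · exact Finset.mem_union_right _ ((mem_ptsIn ι).2 ⟨x, ⟨w, h, hwd, hxw⟩, e⟩) :
      ptsIn ι (topPart S.X₂ r) ⊆ ptsIn ι (topPart S.X₁ r) ∪ ptsIn ι (topPart S.X₃ r))).trans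
      (Finset.card_union_le _ _)
  intro Z i _ _ _ _ I κ _ hI hd
  let ξ := i (genericPoint Z)
  have hcl : closure {ξ} = Set.range i := (LeadDev.range_eq_closure i (ξ := ξ) rfl).symm
  haveI : I.IsQuasicoherent := hI
  let A := (Coh.push i).obj (Coh.structureModule Z)
  let φ := (Coh.push i).map κ
  have hA : Coh.IsCoh A := LeadDev.isCoh_push_structure i
  have hG : Coh.IsCoh ((Coh.push i).obj I) :=
    H10Coh.isCoh_of_mono φ (H10Coh.isQuasicoherent_pushforward i I) hA
  by_cases hne : IsZero I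
  · have hz := (Coh.push i).map_isZero hne
    rw [hψ.zero hz, hempty _ (LeadDev.support_eq_empty_of_isZero hz)]
    simp
  refine ⟨(pos_of_ample k _ (ample_negList ι r) _ hG (by rwa [length_negList])).1, ?_⟩
  have hsG : CohB1.support ((Coh.push i).obj I) ⊆ Set.range i := fun x hx =>
    (support_push_structure_eq i).le (LeadDev.support_subset_of_mono φ hx)
  by_cases hge : (r : WithBot ℕ∞) ≤ cdim ξ
  swap
  · have h0 : topPart ((Coh.push i).obj I) r = ∅ := Set.eq_empty_of_forall_notMem fun x ⟨w, hw, hwd, _⟩ =>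
      hge (hwd.trans (cdim_le_of_mem isClosed_closure (hcl.symm ▸ hsG hw)))
    rw [show ptsIn ι (topPart ((Coh.push i).obj I) r) = ∅ from Finset.eq_empty_of_forall_notMem fun t ht => by
      obtain ⟨x, hx, -⟩ := (mem_ptsIn ι).1 ht
      simp [h0] at hx, Finset.card_empty, Nat.cast_zero]
    exact mul_nonneg (by positivity) (pos_of_ample k _ (ample_negList ι r) _ hG (by rwa [length_negList])).1
  have hrange : Set.range i ⊆ CohB1.support ((Coh.push i).obj I) :=
    LeadDev.range_subset_of_support Z i ‹_› ‹_› I κ inferInstance hI hne _ le_rfl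
  have hrd : topologicalKrullDim (Set.range i) ≤ (r : WithBot ℕ∞) := (dim_le_of_subset hrange).trans hd
  have hQ := H10Coh.isCoh_cokernel φ hG.1 hA
  have hS : (ShortComplex.mk φ (cokernel.π φ) (cokernel.condition φ)).ShortExact :=
    ShortComplex.ShortExact.mk' (ShortComplex.exact_cokernel φ) inferInstance inferInstance
  obtain ⟨U, hU, hξU, -⟩ := exists_isAffineOpen_mem_and_subset (U := (⊤ : X.Opens)) (x := ξ) trivial
  have hQ0 : D k (negList ι r) (cokernel φ) = 0 := D_eq_zero k _ (inv_negList ι r) _ hQ (by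
    rw [length_negList]
    exact dim_lt_of_notMem hcl hrd (H10Coh.isClosed_support _ hQ.2)
      (fun x hx => (support_push_structure_eq i).le (LeadDev.support_subset_of_epi (cokernel.π φ) hx))
      (LeadDev.notMem_support_cokernel φ hG.1 hA.1 hU hξU (LeadDev.surjAt_push_map i rfl I κ hI hne hU hξU)))
  have hadd := hψ.add _ hS hG hA hQ
  change D k (negList ι r) A = D k (negList ι r) _ + D k (negList ι r) (cokernel φ) at hadd
  rw [hQ0, add_zero] at hadd
  rw [← hadd]
  refine le_trans (Int.ofNat_le.2 (Finset.card_le_card (ptsIn_mono ι ?_))) (hint Z i hrd hge)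
  rintro x ⟨w, hw, -, hxw⟩
  exact hcl ▸ closure_minimal (Set.singleton_subset_iff.2 (hcl.symm ▸ hsG hw)) isClosed_closure hxw

theorem integral_zero (Z : Scheme.{u}) (i : Z ⟶ X) [IsClosedImmersion i] [IsIntegral Z]
    (hd : topologicalKrullDim (Set.range i) ≤ ((0 : ℕ) : WithBot ℕ∞)) :
    ((ptsIn ι (Set.range i)).card : ℤ) ≤
      2 ^ 0 * (Fintype.card k : ℤ) ^ 0 * D k (negList ι 0) ((Coh.push i).obj (Coh.structureModule Z)) := by
  have hpos := euler_push_structure_pos k i hd
  let ξ := i (genericPoint Z)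
  have hcl : closure {ξ} = Set.range i := (LeadDev.range_eq_closure i (ξ := ξ) rfl).symm
  have hsub : (Set.range i).Subsingleton := by
    have key : ∀ x ∈ Set.range i, x = ξ := fun x hx => by
      by_contra hne
      have hxc : x ∈ closure ({ξ} : Set X) := hcl.symm ▸ hx
      have h := dim_lt_of_notMem hcl hd (isClosed_closure (s := ({x} : Set X)))
        (fun y hy => hcl ▸ closure_minimal (Set.singleton_subset_iff.2 hxc) isClosed_closure hy)
        (fun hξ => hne (((specializes_iff_mem_closure.2 hξ).antisymm (specializes_iff_mem_closure.2 hxc)).eq))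
      haveI : Nonempty (IrreducibleCloseds (closure ({x} : Set X))) :=
        ⟨⟨closure {⟨x, subset_closure rfl⟩}, isIrreducible_singleton.closure, isClosed_closure⟩⟩
      exact absurd h (not_lt.2 Order.krullDim_nonneg)
    exact fun a ha b hb => (key a ha).trans (key b hb).symm
  have h1 := card_point ι hsub
  show _ ≤ _ * Curv2.euler k X _
  rw [pow_zero, pow_zero, one_mul, one_mul]
  omega

theorem integral_succ (r : ℕ) (ih : ∀ F : X.Modules, Coh.IsCoh F → Bound ι r F)
    (Z : Scheme.{u}) (i : Z ⟶ X) [IsClosedImmersion i] [IsIntegral Z]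
    (hd : topologicalKrullDim (Set.range i) ≤ ((r + 1 : ℕ) : WithBot ℕ∞))
    (hge : ((r + 1 : ℕ) : WithBot ℕ∞) ≤ cdim (i (genericPoint Z))) :
    ((ptsIn ι (Set.range i)).card : ℤ) ≤ 2 ^ (r + 1) * (Fintype.card k : ℤ) ^ (r + 1) *
      D k (negList ι (r + 1)) ((Coh.push i).obj (Coh.structureModule Z)) := by
  classical
  haveI := H28Int.isNoetherian k (X := X)
  let ξ := i (genericPoint Z)
  let A := (Coh.push i).obj (Coh.structureModule Z)
  have hA : Coh.IsCoh A := LeadDev.isCoh_push_structure i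
  have hcl : closure {ξ} = Set.range i := (LeadDev.range_eq_closure i (ξ := ξ) rfl).symm
  have hsA := support_push_structure_eq i
  have hd1 : topologicalKrullDim (CohB1.support A) ≤ ((r + 1 : ℕ) : WithBot ℕ∞) := by rw [hsA]; exact hd
  have hposA : 0 < D k (negList ι (r + 1)) A :=
    (pos_of_ample k _ (ample_negList ι (r + 1)) A hA (by rw [length_negList]; exact hd1)).2
      ⟨ξ, hsA.symm ▸ ⟨genericPoint Z, rfl⟩, by rw [length_negList]; exact hge⟩
  obtain ⟨δ, hδ⟩ := Int.eq_ofNat_of_zero_le hposA.le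
  have hδpos : 0 < δ := by exact_mod_cast hδ ▸ hposA
  have hcut : ∀ a : Fin (n + 1) → k, (∀ t ∈ ptsIn ι (Set.range i), lev (nvec t) a = 0) ∨
      ((ptsIn ι (Set.range i)).filter fun t => lev (nvec t) a = 0).card ≤ 2 ^ r * Fintype.card k ^ r * δ := by
    intro a
    let G := H11Ample.gen (Lp ι) (sec1 ι a)
    have hG : ∀ {t : NIdx n k} {x : X}, ι.base x = ptv t → (x ∈ G ↔ lev (nvec t) a ≠ 0) := fun {t x} e => by
      rw [show G = _ from gen_sec1 ι a, ← ptv_mem_basicOpen t a, ← e]
      rfl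
    by_cases hξG : ξ ∈ G
    swap
    · refine Or.inl fun t ht => ?_
      obtain ⟨x, hx, e⟩ := (mem_ptsIn ι).1 ht
      by_contra hne
      exact hξG ((specializes_iff_mem_closure.2 (hcl.symm ▸ hx)).mem_open G.2 ((hG e).2 hne))
    refine Or.inr ?_
    let μ := H25Euler.mulHom A (H11Tilde.homOfGlobal (Lp ι) (sec1 ι a))
    have hB : Coh.IsCoh (CohB1.tensorMod A (Lp ι)) := H11Ample.isCoh_tensor hA (isInvertible_Lp ι)
    have hiso : ∀ x ∈ G, x ∉ CohB1.support (kernel μ) ∧ x ∉ CohB1.support (cokernel μ) := fun x hx =>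
      H25Euler.notMem_support_kernel_cokernel μ (x := x) (H25Euler.isIso_stalk_mulHom A _ hx)
    have hker : IsZero (kernel μ) := isZero_of_mono_push i (kernel.ι μ) (hiso ξ hξG).1
    haveI : Mono μ := Preadditive.mono_of_isZero_kernel μ hker
    have hC := H10Coh.isCoh_cokernel μ hA.1 hB
    have hS : (ShortComplex.mk μ (cokernel.π μ) (cokernel.condition μ)).ShortExact :=
      ShortComplex.ShortExact.mk' (ShortComplex.exact_cokernel μ) inferInstance inferInstance
    have hCs : ∀ x ∈ CohB1.support (cokernel μ), x ∈ Set.range i := fun x hx =>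
      hsA ▸ H25Euler.support_tensor_subset A (Lp ι) (LeadDev.support_subset_of_epi (cokernel.π μ) hx)
    have hCd : topologicalKrullDim (CohB1.support (cokernel μ)) ≤ (r : WithBot ℕ∞) := by
      have h1 : topologicalKrullDim (CohB1.support (cokernel μ)) < ((r + 1 : ℕ) : WithBot ℕ∞) :=
        dim_lt_of_notMem hcl hd (H10Coh.isClosed_support _ hC.2) hCs (hiso ξ hξG).2
      rcases hdim : topologicalKrullDim (CohB1.support (cokernel μ)) with _ | m
      · exact bot_le
      · rw [hdim] at h1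
        have : m < ((r + 1 : ℕ) : ℕ∞) := WithBot.coe_lt_coe.1 h1
        exact WithBot.coe_le_coe.2 (ENat.lt_natCast_add_one_iff.1 (by exact_mod_cast this))
    have hl := inv_negList ι r
    obtain ⟨e⟩ := nonempty_Lp_tensor_Mn ι
    have htw : D k (negList ι (r + 1)) (CohB1.tensorMod (Lp ι) A) = D k (negList ι (r + 1)) A :=
      D_twist k (inv_negList ι (r + 1)) (isInvertible_Lp ι) hA (by rw [length_negList]; exact hd1)
    have hexp : D k (negList ι (r + 1)) (CohB1.tensorMod (Lp ι) A) =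
        D k (negList ι r) (CohB1.tensorMod A (Lp ι)) - D k (negList ι r) A := by
      show D k (negList ι r) (CohB1.tensorMod (Lp ι) A) -
        D k (negList ι r) (CohB1.tensorMod (Mn ι) (CohB1.tensorMod (Lp ι) A)) = _
      rw [(isAddFn_D k _ hl).congr (H10Coh.Tw.commIso (Lp ι) A),
        (isAddFn_D k _ hl).congr ((H10Coh.Tw.assoc (Mn ι) (Lp ι) A).symm ≪≫
          PicGrp.tensorModIso (H10Coh.Tw.commIso (Mn ι) (Lp ι) ≪≫ e) (Iso.refl A) ≪≫ H10Coh.Tw.leftUnitIso A)]
    have hadd := (isAddFn_D k _ hl).add _ hS hA hB hC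
    change D k (negList ι r) (CohB1.tensorMod A (Lp ι)) = D k (negList ι r) A + D k (negList ι r) (cokernel μ) at hadd
    have hDC : D k (negList ι r) (cokernel μ) = (δ : ℤ) := by
      have : D k (negList ι (r + 1)) A = (δ : ℤ) := hδ
      omega
    obtain ⟨-, hb⟩ := ih _ hC hCd
    rw [hDC] at hb
    refine le_trans (Finset.card_le_card fun t ht => ?_) (by exact_mod_cast hb)
    obtain ⟨ht1, ht2⟩ := Finset.mem_filter.1 ht
    obtain ⟨x, hx, ex⟩ := (mem_ptsIn ι).1 ht1
    obtain ⟨w, hwξ, hwG, hxw, hdimw⟩ := exists_point_cut_through k (isInvertible_Lp ι) (sec1 ι a) hξG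
      (w₀ := x) ⟨hcl.symm ▸ hx, fun h => (hG ex).1 h ht2⟩
    have hwC : w ∈ CohB1.support (cokernel μ) :=
      Stalk.mem_support_cokernel_mulHom (isInvertible_Lp ι) (sec1 ι a) hA (hsA ▸ hcl ▸ hwξ) hwG
    exact (mem_ptsIn ι).2 ⟨x, ⟨w, hwC, le_of_add_one_le (hdimw ▸ hge), hxw⟩, ex⟩
  have h := card_le (ptsIn ι (Set.range i)) (2 ^ r * Fintype.card k ^ r * δ)
    (by have := (Fintype.card_pos : 0 < Fintype.card k); positivity) hcut
  change _ ≤ _ * D k (negList ι (r + 1)) A
  rw [hδ]
  calc ((ptsIn ι (Set.range i)).card : ℤ) ≤ ((2 * Fintype.card k * (2 ^ r * Fintype.card k ^ r * δ) : ℕ) : ℤ) := by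
        exact_mod_cast h
    _ = _ := by push_cast; ring

theorem bound_all : ∀ (r : ℕ) (F : X.Modules), Coh.IsCoh F → Bound ι r F
  | 0 => devissage_bound ι 0 fun Z i _ _ hd _ => integral_zero ι Z i hd
  | r + 1 => devissage_bound ι (r + 1) fun Z i _ _ hd hge => integral_succ ι r (bound_all r) Z i hd hge

end onX

end

end Groth.Agent.H27UPts
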